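import Mathlib.LinearAlgebra.FiniteDimensional.Lemmas
import Mathlib.LinearAlgebra.Dimension.RankNullity

/-! # Lifting an isomorphism to a pair of flags compatibly with two linear maps -/

universe u v w v' w'

open Module

namespace Groth.Agent.Chain19

variable {k : Type u} [Field k] {V : Type v} [AddCommGroup V] [Module k V] [FiniteDimensional k V]
  {W : Type w} [AddCommGroup W] [Module k W]
  {V' : Type v'} [AddCommGroup V'] [Module k V'] [FiniteDimensional k V']
  {W' : Type w'} [AddCommGroup W'] [Module k W']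

omit [FiniteDimensional k V] in
/-- A relative complement. -/
theorem exists_rel_compl {p q : Submodule k V} (h : p ≤ q) :
    ∃ c : Submodule k V, c ≤ q ∧ p ⊔ c = q ∧ p ⊓ c = ⊥ := by
  obtain ⟨c, hc⟩ := Submodule.exists_isCompl p
  refine ⟨c ⊓ q, inf_le_right, ?_, ?_⟩
  · rw [← sup_inf_assoc_of_le _ h, hc.sup_eq_top, top_inf_eq]
  · rw [← inf_assoc, hc.inf_eq_bot, bot_inf_eq]

omit [FiniteDimensional k V'] in
/-- Rank-nullity for a submodule. -/
theorem finrank_map_add_inf (f : V →ₗ[k] W) (F : Submodule k V) :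
    finrank k (F.map f) + finrank k (F ⊓ LinearMap.ker f : Submodule k V) = finrank k F := by
  have h := LinearMap.finrank_range_add_finrank_ker (f.domRestrict F)
  rw [LinearMap.range_domRestrict] at h
  have h2 : finrank k (LinearMap.ker (f.domRestrict F)) = finrank k (F ⊓ LinearMap.ker f : Submodule k V) := by
    rw [LinearMap.ker_domRestrict]
    exact (Submodule.comapSubtypeEquivOfLe (p := F ⊓ LinearMap.ker f) (q := F) inf_le_left).finrank_eq ▸ (by
      rw [Submodule.comap_inf, Submodule.comap_subtype_self, top_inf_eq])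
  omega

/-- The flag lifting lemma. -/
theorem exists_flag_lift (f : V →ₗ[k] W) (f' : V' →ₗ[k] W') (φ : W ≃ₗ[k] W') (n : ℕ)
    (F : ℕ → Submodule k V) (F' : ℕ → Submodule k V')
    (hF0 : F 0 = ⊥) (hF'0 : F' 0 = ⊥) (hFn : F n = ⊤) (hF'n : F' n = ⊤)
    (hF : ∀ i < n, F i ≤ F (i + 1)) (hF' : ∀ i < n, F' i ≤ F' (i + 1))
    (hdim : ∀ i ≤ n, finrank k (F i) = finrank k (F' i))
    (hφ : ∀ i ≤ n, ((F i).map f).map (φ : W →ₗ[k] W') = (F' i).map f') :
    ∃ ψ : V ≃ₗ[k] V', (∀ v, f' (ψ v) = φ (f v)) ∧ ∀ i ≤ n, (F i).map (ψ : V →ₗ[k] V') = F' i := by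
  have hK : ∀ i ≤ n, finrank k (F i ⊓ LinearMap.ker f : Submodule k V) =
      finrank k (F' i ⊓ LinearMap.ker f' : Submodule k V') := by
    intro i hi
    have h1 := finrank_map_add_inf f (F i)
    have h2 := finrank_map_add_inf f' (F' i)
    have h3 : finrank k (((F i).map f).map (φ : W →ₗ[k] W')) = finrank k ((F i).map f) :=
      LinearEquiv.finrank_map_eq φ _
    rw [hφ i hi] at h3
    have h4 := hdim i hi
    omega
  have key : ∀ i ≤ n, ∃ ψ : V →ₗ[k] V', (∀ v ∈ F i, f' (ψ v) = φ (f v)) ∧ ∀ j ≤ i, (F j).map ψ = F' j := by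
    intro i
    induction i with
    | zero =>
      intro _
      refine ⟨0, fun v hv => ?_, fun j hj => ?_⟩
      · rw [hF0, Submodule.mem_bot] at hv
        simp [hv]
      · rw [Nat.le_zero.1 hj, hF0, hF'0, Submodule.map_bot]
    | succ i ih =>
      intro hi
      obtain ⟨ψ, hψ, hψF⟩ := ih (by omega)
      set A := F (i + 1) with hA
      set A' := F' (i + 1)
      have hBA : F i ≤ A := hF i (by omega)
      have hBA' : F' i ≤ A' := hF' i (by omega)
      -- the kernel part
      obtain ⟨C₀, hC₀le, hC₀sup, hC₀inf⟩ := exists_rel_compl (show F i ⊓ LinearMap.ker f ≤ A ⊓ LinearMap.ker f from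
        inf_le_inf_right _ hBA)
      obtain ⟨C₀', hC₀'le, hC₀'sup, hC₀'inf⟩ := exists_rel_compl
        (show F' i ⊓ LinearMap.ker f' ≤ A' ⊓ LinearMap.ker f' from inf_le_inf_right _ hBA')
      have hC₀dim : finrank k C₀ = finrank k C₀' := by
        have h1 := Submodule.finrank_sup_add_finrank_inf_eq (F i ⊓ LinearMap.ker f) C₀
        have h2 := Submodule.finrank_sup_add_finrank_inf_eq (F' i ⊓ LinearMap.ker f') C₀'
        rw [hC₀sup, hC₀inf, finrank_bot] at h1
        rw [hC₀'sup, hC₀'inf, finrank_bot] at h2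
        have h3 := hK i (by omega)
        have h4 : finrank k (A ⊓ LinearMap.ker f : Submodule k V) =
          finrank k (A' ⊓ LinearMap.ker f' : Submodule k V') := hK (i + 1) hi
        omega
      obtain ⟨C₁, hC₁le, hC₁sup, hC₁inf⟩ := exists_rel_compl (show F i ⊔ C₀ ≤ A from
        sup_le hBA (hC₀le.trans inf_le_left))
      let a : C₀ →ₗ[k] V' := C₀'.subtype ∘ₗ (LinearEquiv.ofFinrankEq C₀ C₀' hC₀dim).toLinearMap
      -- the lifting part
      have hlift : ∃ b : C₁ →ₗ[k] V', (∀ c, b c ∈ A') ∧ ∀ c, f' (b c) = φ (f c.1) := by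
        let t : A' →ₗ[k] A'.map f' := (f'.domRestrict A').codRestrict _ fun x => ⟨x.1, x.2, rfl⟩
        have ht : LinearMap.range t = ⊤ := LinearMap.range_eq_top.2 fun ⟨y, x, hx, hxy⟩ => ⟨⟨x, hx⟩, Subtype.ext hxy⟩
        obtain ⟨s, hs⟩ := t.exists_rightInverse_of_surjective ht
        let g : C₁ →ₗ[k] A'.map f' := ((φ : W →ₗ[k] W') ∘ₗ f ∘ₗ C₁.subtype).codRestrict _ fun c =>
          hφ (i + 1) hi ▸ ⟨f c.1, ⟨c.1, hC₁le c.2, rfl⟩, rfl⟩
        refine ⟨A'.subtype ∘ₗ s ∘ₗ g, fun c => (s (g c)).2, fun c => ?_⟩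
        exact congrArg Subtype.val (LinearMap.congr_fun hs (g c))
      obtain ⟨b, hbA, hb⟩ := hlift
      let ι : (F i × C₀) × C₁ →ₗ[k] V := ((F i).subtype.coprod C₀.subtype).coprod C₁.subtype
      have hι : LinearMap.ker ι = ⊥ := by
        refine LinearMap.ker_eq_bot'.2 ?_
        rintro ⟨⟨x, c⟩, c'⟩ h
        replace h : x.1 + c.1 + c'.1 = 0 := h
        have hc' : c'.1 ∈ (F i ⊔ C₀) ⊓ C₁ := ⟨by
          rw [show c'.1 = -(x.1 + c.1) from eq_neg_of_add_eq_zero_right h]
          exact neg_mem (Submodule.add_mem_sup x.2 c.2), c'.2⟩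
        rw [hC₁inf, Submodule.mem_bot] at hc'
        rw [hc', add_zero] at h
        have hc : c.1 ∈ (F i ⊓ LinearMap.ker f) ⊓ C₀ := ⟨⟨by
          rw [show c.1 = -x.1 from eq_neg_of_add_eq_zero_right h]
          exact neg_mem x.2, (hC₀le c.2).2⟩, c.2⟩
        rw [hC₀inf, Submodule.mem_bot] at hc
        rw [hc, add_zero] at h
        exact Prod.ext (Prod.ext (Subtype.ext h) (Subtype.ext hc)) (Subtype.ext hc')
      obtain ⟨r, hr⟩ := ι.exists_leftInverse_of_injective hι
      let ψ' : V →ₗ[k] V' := (((ψ.comp (F i).subtype).coprod a).coprod b).comp r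
      have hψ'ι : ∀ z, ψ' (ι z) = ψ z.1.1.1 + a z.1.2 + b z.2 := fun z => by
        show (((ψ.comp (F i).subtype).coprod a).coprod b) (r (ι z)) = _
        rw [show r (ι z) = z from LinearMap.congr_fun hr z]
        rfl
      have hold : ∀ v ∈ F i, ψ' v = ψ v := fun v hv => by
        have := hψ'ι ((⟨v, hv⟩, 0), 0)
        simpa [ι] using this
      have hdec : ∀ v ∈ A, ∃ z, ι z = v := by
        intro v hv
        rw [← hC₁sup] at hv
        obtain ⟨p, hp, q, hq, rfl⟩ := Submodule.mem_sup.1 hv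
        obtain ⟨x, hx, y, hy, rfl⟩ := Submodule.mem_sup.1 hp
        exact ⟨((⟨x, hx⟩, ⟨y, hy⟩), ⟨q, hq⟩), rfl⟩
      have hmem : ∀ v ∈ A, ψ' v ∈ A' ∧ f' (ψ' v) = φ (f v) := by
        intro v hv
        obtain ⟨⟨⟨x, y⟩, q⟩, rfl⟩ := hdec v hv
        rw [hψ'ι]
        have hx : ψ x.1 ∈ A' := hBA' (hψF i le_rfl ▸ ⟨x.1, x.2, rfl⟩)
        have hy : a y ∈ A' ⊓ LinearMap.ker f' := hC₀'le (LinearEquiv.ofFinrankEq C₀ C₀' hC₀dim y).2
        refine ⟨add_mem (add_mem hx hy.1) (hbA q), ?_⟩
        show f' (ψ x.1 + a y + b q) = φ (f (x.1 + y.1 + q.1))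
        have e1 : f' (a y) = 0 := hy.2
        have e2 : f y.1 = 0 := (hC₀le y.2).2
        simp only [map_add, hψ x.1 x.2, e1, e2, hb q, map_zero, add_zero]
      refine ⟨ψ', fun v hv => (hmem v hv).2, fun j hj => ?_⟩
      rcases Nat.lt_or_ge j (i + 1) with hlt | hge
      · have hle : F j ≤ F i := by
          have : ∀ m, j ≤ m → m ≤ i → F j ≤ F m := by
            intro m hjm hmi
            induction m, hjm using Nat.le_induction with
            | base => exact le_rfl
            | succ m _ ihm => exact (ihm (by omega)).trans (hF m (by omega))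
          exact this i (by omega) le_rfl
        rw [← hψF j (by omega)]
        ext y
        constructor
        · rintro ⟨v, hv, rfl⟩
          exact ⟨v, hv, (hold v (hle hv)).symm⟩
        · rintro ⟨v, hv, rfl⟩
          exact ⟨v, hv, hold v (hle hv)⟩
      · obtain rfl : j = i + 1 := by omega
        refine le_antisymm ?_ ?_
        · rintro _ ⟨v, hv, rfl⟩
          exact (hmem v hv).1
        · intro y hy
          have hy' : f' y ∈ ((F (i + 1)).map f).map (φ : W →ₗ[k] W') := hφ (i + 1) hi ▸ ⟨y, hy, rfl⟩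
          obtain ⟨_, ⟨x, hx, rfl⟩, hxy⟩ := hy'
          have hd : y - ψ' x ∈ A' ⊓ LinearMap.ker f' := by
            refine ⟨sub_mem hy (hmem x hx).1, ?_⟩
            show f' (y - ψ' x) = 0
            rw [map_sub, (hmem x hx).2]
            exact sub_eq_zero.2 hxy.symm
          have himg : A' ⊓ LinearMap.ker f' ≤ A.map ψ' := by
            rw [← hC₀'sup]
            refine sup_le (fun z hz => ?_) fun z hz => ?_
            · obtain ⟨v, hv, rfl⟩ := (hψF i le_rfl).symm ▸ hz.1
              exact ⟨v, hBA hv, hold v hv⟩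
            · obtain ⟨c, hc⟩ := (LinearEquiv.ofFinrankEq C₀ C₀' hC₀dim).surjective ⟨z, hz⟩
              refine ⟨c.1, (hC₀le c.2).1, ?_⟩
              have := hψ'ι ((0, c), 0)
              simp only [ι, LinearMap.coprod_apply, map_zero, zero_add, add_zero, Submodule.coe_subtype,
                ZeroMemClass.coe_zero] at this
              rw [this]
              exact congrArg Subtype.val hc
          obtain ⟨v, hv, hvy⟩ := himg hd
          exact ⟨v + x, add_mem hv hx, by rw [map_add, hvy, sub_add_cancel]⟩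
  obtain ⟨ψ, hψ, hψF⟩ := key n le_rfl
  have hsurj : Function.Surjective ψ := by
    intro y
    have : y ∈ (F n).map ψ := by rw [hψF n le_rfl, hF'n]; trivial
    obtain ⟨x, -, hx⟩ := this
    exact ⟨x, hx⟩
  have hd : finrank k V = finrank k V' := by
    have := hdim n le_rfl
    rw [hFn, hF'n, finrank_top, finrank_top] at this
    exact this
  exact ⟨LinearEquiv.ofBijective ψ ⟨(LinearMap.injective_iff_surjective_of_finrank_eq_finrank hd).2 hsurj, hsurj⟩,
    fun v => hψ v (hFn ▸ trivial), hψF⟩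

end Groth.Agent.Chain19
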